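import Cfsg.Agent.H46.Fi22Out.Certs
import Cfsg.Agent.H87.OmegaEightGen
import Cfsg.Agent.H3.Fischer.O8.Data

/-!
The checks on the table for the class of 120 transpositions.
-/

set_option autoImplicit false
set_option maxRecDepth 100000

namespace Cfsg.Agent.H3.Fischer.O8

open Cfsg.Agent.H45 Cfsg.Agent.H46.Fi22Out
open Cfsg.Agent.H87.OmegaEight (vecOf row root refl2)

/-- the table -/
abbrev tbl : List ℕ := Cfsg.Agent.H46.Fi22Out.cols

/-- follow a word -/
noncomputable def wk (w : List ℕ) (x : ℕ) : ℕ := walkC (cw tbl w) x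

/-- the word of a transposition of the class -/
def mW (k : ℕ) : List ℕ := conjW (pws.getD k [])

/-- the word of a product of transpositions of the class -/
def lW (l : List ℕ) : List ℕ := l.flatMap mW

/-- the four words of the first chain -/
def aW : List ℕ := lW chainA

/-- the four words of the second chain -/
def bW : List ℕ := lW chainB

/-- a transposition of another class, as a word -/
def swW : List ℕ := [7]

/-- the elements changing the class -/
def gW : ℕ → List ℕ
  | 0 => []
  | 1 => swW
  | _ => swW ++ mW (chainA.getD 0 0) ++ swW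

/-- the six moves -/
def mvW (i : ℕ) : List ℕ := gW (mvClass.getD i 0) ++ lW (mvList.getD i [])

/-- a power of a word -/
def powW : ℕ → List ℕ → List ℕ
  | 0, _ => []
  | n + 1, w => w ++ powW n w

/-- an element of the elementary group of order 25, as a word -/
def eW (k l : ℕ) : List ℕ := powW k aW ++ powW l bW

/-- equality of two words on the eight points -/
noncomputable def sameW (w w' : List ℕ) : Bool :=
  (List.range 8).all fun k => Nat.beq (wk w (pts.getD k 0)) (wk w' (pts.getD k 0))

theorem pws_lt : (pws.all fun u => u.all fun l => Nat.blt l 9) = true := by decide +kernel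

theorem pts_lt : ∀ k : Fin 120, pts.getD k.1 0 < 3510 := by decide +kernel

theorem pts_ok : ∀ k : Fin 120, wk (pws.getD k.1 []) 0 = pts.getD k.1 0 := by decide +kernel

theorem act_lt : ∀ i : Fin 8, ∀ k : Fin 120, (act.getD i.1 []).getD k.1 0 < 120 := by decide +kernel

/-- the image of an index under one of the eight -/
def actK (i : Fin 8) (k : Fin 120) : Fin 120 := ⟨(act.getD i.1 []).getD k.1 0, act_lt i k⟩

theorem act_pts : ∀ i : Fin 8, ∀ k : Fin 120,
    wk (mW i.1) (pts.getD k.1 0) = pts.getD (actK i k).1 0 := by decide +kernel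

theorem act_vec : ∀ i : Fin 8, ∀ k : Fin 120,
    refl2 (root i) (vecOf (row k.1).1) = vecOf (row (actK i k).1).1 := by decide +kernel

theorem row_root : ∀ i : Fin 8, vecOf (row i.1).1 = root i := by decide +kernel

theorem vec_inj : ∀ k l : Fin 120, vecOf (row k.1).1 = vecOf (row l.1).1 → k = l := by decide +kernel

theorem pts_inj : ∀ k l : Fin 120, pts.getD k.1 0 = pts.getD l.1 0 → k = l := by decide +kernel

/-- membership among the 120 points -/
def inC (x : ℕ) : Bool := pts.any fun y => Nat.beq x y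

theorem out_one : inC (wk swW (pts.getD 0 0)) = false := by decide +kernel

theorem out_two : inC (wk (gW 2).reverse (pts.getD 0 0)) = false := by decide +kernel

theorem out_three : inC (wk (swW ++ gW 2) (pts.getD 0 0)) = false := by decide +kernel

theorem chain_lt : ∀ i : Fin 4, chainA.getD i.1 0 < 120 ∧ chainB.getD i.1 0 < 120 := by decide +kernel

theorem chainA_comm : ∀ i j : Fin 4,
    (wk (mW (chainA.getD i.1 0)) (pts.getD (chainA.getD j.1 0) 0) = pts.getD (chainA.getD j.1 0) 0 ↔
      ¬ (i.1 + 1 = j.1 ∨ j.1 + 1 = i.1)) := by decide +kernel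

theorem chainB_comm : ∀ i j : Fin 4,
    (wk (mW (chainB.getD i.1 0)) (pts.getD (chainB.getD j.1 0) 0) = pts.getD (chainB.getD j.1 0) 0 ↔
      ¬ (i.1 + 1 = j.1 ∨ j.1 + 1 = i.1)) := by decide +kernel

theorem chainAB_comm : ∀ i j : Fin 4,
    wk (mW (chainA.getD i.1 0)) (pts.getD (chainB.getD j.1 0) 0) = pts.getD (chainB.getD j.1 0) 0 := by
  decide +kernel

theorem lists_lt : (mvList.all fun l => l.all fun k => Nat.blt k 120) = true ∧
    (cjList.all fun l => (l.all fun k => Nat.blt k 120) && Nat.beq (l.length % 2) 0) = true := by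
  decide +kernel

theorem mv_ok : ∀ i : Fin 6,
    sameW (mvW i.1 ++ aW ++ (mvW i.1).reverse)
      (eW ((mvExp.getD i.1 []).getD 0 0) ((mvExp.getD i.1 []).getD 1 0)) = true ∧
    sameW (mvW i.1 ++ bW ++ (mvW i.1).reverse)
      (eW ((mvExp.getD i.1 []).getD 2 0) ((mvExp.getD i.1 []).getD 3 0)) = true := by
  decide +kernel

/-- the exponents hit the six lines -/
theorem mv_lines : ∀ i : Fin 6, (mvExp.getD i.1 []).getD 0 0 % 5 ≠ 0 ∨ (mvExp.getD i.1 []).getD 1 0 % 5 ≠ 0 := by
  decide +kernel

theorem mv_cover : ∀ i : Fin 6, ∃ k : Fin 5, k ≠ 0 ∧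
    (if i.1 < 5 then k.1 else 0) = (mvExp.getD i.1 []).getD 0 0 ∧
    (if i.1 < 5 then i.1 * k.1 % 5 else k.1) = (mvExp.getD i.1 []).getD 1 0 := by
  decide +kernel

theorem cj_ok : ∀ i : Fin 7,
    sameW (swW ++ mW 7 ++ mW i.1 ++ swW) (lW (cjList.getD i.1 [])) = true := by
  decide +kernel

end Cfsg.Agent.H3.Fischer.O8
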