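import Cfsg.Agent.H46.Fi22Out.Transp
import Cfsg.Agent.H3.Fischer.O8.Check

/-!
A group isomorphic to the presented `Fi₂₂`, read on the table of degree 3510.
-/

set_option autoImplicit false
set_option maxRecDepth 100000

namespace Cfsg.Agent.H3.Fischer.O8

open Cfsg.Agent.H45 Cfsg.Agent.H46.Fi22Out

/-- letters and transpositions of a group read on the table -/
structure Tbl {G : Type*} [Group G] (D : Set G) (gn : ℕ → G) (mem : Fin 3510 → G) : Prop where
  mem_D : ∀ x, mem x ∈ D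
  inj : Function.Injective mem
  move : ∀ w : List ℕ, (∀ l ∈ w, l < 9) → ∀ x y : Fin 3510, wk w x.1 = y.1 →
    (evalW gn w)⁻¹ * mem x * evalW gn w = mem y
  word : ∀ u : List ℕ, (∀ l ∈ u, l < 9) → ∀ x : Fin 3510, wk u 0 = x.1 → evalW gn (conjW u) = mem x
  inv : ∀ l, (gn l)⁻¹ = gn l
  gn_D : gn 7 ∈ D

theorem exists_tbl {G : Type*} [Group G] {D : Set G} (ε : Cfsg.Agent.H46.Fi22Out.G ≃* G)
    (ha : ε (e 0) ∈ D) (hconj : ∀ g : G, ∀ x ∈ D, g * x * g⁻¹ ∈ D) :
    ∃ gn mem, Tbl D gn mem := by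
  obtain ⟨φ, R⟩ := exists_rep
  choose c hc using R.trans
  have hmem : ∀ (g : Cfsg.Agent.H46.Fi22Out.G) (x : Fin 3510), φ g 0 = x → cj (c x) = cj g :=
    fun g x hg => (R.cj_eq _ _).mp (by rw [hc, hg])
  have hcjD : ∀ g, ε (cj g) ∈ D := fun g => by
    rw [cj, map_mul, map_mul, map_inv]; exact hconj _ _ ha
  refine ⟨fun l => ε (e l), fun x => ε (cj (c x)), fun x => hcjD _, fun x y q => ?_, fun w hw x y hxy => ?_,
    fun u hu x hx => ?_, fun l => by rw [← map_inv, e_inv'], ?_⟩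
  · have := (R.cj_eq _ _).mpr (ε.injective q)
    rwa [hc, hc] at this
  · have hev : evalW (fun l => ε (e l)) w = ε (evalW e w) := by
      simp only [evalW, map_list_prod, List.map_map]; rfl
    rw [hev, ← map_inv, ← map_mul, ← map_mul]
    congr 1
    rw [hmem ((evalW e w)⁻¹ * c x) y, cj_mul, inv_inv]
    refine Fin.ext ?_
    rw [map_mul, Equiv.Perm.mul_apply, hc, map_inv, R.walk hw]
    exact hxy
  · have hev : evalW (fun l => ε (e l)) (conjW u) = ε (evalW e (conjW u)) := by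
      simp only [evalW, map_list_prod, List.map_map]; rfl
    rw [hev, evalW_conjW, hmem (evalW e u)⁻¹ x (Fin.ext ?_)]
    · rfl
    · rw [R.pt hu]
      exact hx
  · rw [R.e_eq_TT (by norm_num : (7 : ℕ) < 9)]
    exact hcjD _

variable {G : Type*} [Group G] {D : Set G} {gn : ℕ → G} {mem : Fin 3510 → G}

theorem Tbl.eval_reverse (T : Tbl D gn mem) : ∀ w : List ℕ, evalW gn w.reverse = (evalW gn w)⁻¹
  | [] => by simp [evalW]
  | x :: w => by
    rw [List.reverse_cons, evalW_append, T.eval_reverse w, evalW_cons, evalW_cons, evalW_nil,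
      mul_one, mul_inv_rev, T.inv]

/-- the point of an index -/
def pt (k : Fin 120) : Fin 3510 := ⟨pts.getD k.1 0, pts_lt k⟩

theorem pt_inj {k l : Fin 120} (h : pt k = pt l) : k = l := pts_inj k l (congrArg Fin.val h)

/-- the transposition of an index -/
def pk (mem : Fin 3510 → G) (k : Fin 120) : G := mem (pt k)

theorem pws_lt' (k : Fin 120) : ∀ l ∈ pws.getD k.1 [], l < 9 := by
  intro l hl
  by_cases hk : k.1 < pws.length
  · rw [List.getD_eq_getElem _ _ hk] at hl
    have := List.all_eq_true.mp (List.all_eq_true.mp pws_lt _ (List.getElem_mem hk)) l hl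
    simpa using this
  · rw [List.getD_eq_default _ _ (by omega)] at hl
    simp at hl

theorem mW_lt (k : Fin 120) : ∀ l ∈ mW k.1, l < 9 := conjW_lt (pws_lt' k)

theorem Tbl.eval_mW (T : Tbl D gn mem) (k : Fin 120) : evalW gn (mW k.1) = pk mem k :=
  T.word _ (pws_lt' k) _ (pts_ok k)

theorem Tbl.eval_lW (T : Tbl D gn mem) : ∀ l : List (Fin 120),
    evalW gn (lW (l.map Fin.val)) = (l.map (pk mem)).prod
  | [] => rfl
  | k :: l => by
    simp only [lW, List.map_cons, List.flatMap_cons, List.prod_cons]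
    rw [evalW_append, T.eval_mW]
    exact congrArg _ (T.eval_lW l)

theorem lW_lt {l : List ℕ} (h : ∀ k ∈ l, k < 120) : ∀ x ∈ lW l, x < 9 := by
  intro x hx
  obtain ⟨k, hk, hxk⟩ := List.mem_flatMap.mp hx
  exact mW_lt ⟨k, h k hk⟩ x hxk

/-- two words are equal when they agree on the eight points -/
theorem Tbl.same (T : Tbl D gn mem) (hcen : ∀ z : G, (∀ k : Fin 120, k.1 < 8 → Commute z (pk mem k)) → z = 1)
    {w w' : List ℕ} (hw : ∀ l ∈ w, l < 9) (hw' : ∀ l ∈ w', l < 9) (h : sameW w w' = true) :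
    evalW gn w = evalW gn w' := by
  refine mul_inv_eq_one.mp (hcen (evalW gn w * (evalW gn w')⁻¹) fun k hk => ?_)
  have hk' : wk w (pts.getD k.1 0) = wk w' (pts.getD k.1 0) :=
    Nat.beq_eq.mp (List.all_eq_true.mp h k.1 (List.mem_range.mpr hk))
  have hlt : wk w (pt k).1 < 3510 := by
    obtain ⟨φ, R⟩ := exists_rep
    have := R.walk hw (pt k)
    rw [wk, ← this]
    exact Fin.isLt _
  have e1 := T.move w hw (pt k) ⟨_, hlt⟩ rfl
  have e2 := T.move w' hw' (pt k) ⟨_, hlt⟩ hk'.symm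
  rw [← e2] at e1
  show evalW gn w * (evalW gn w')⁻¹ * mem (pt k) = mem (pt k) * (evalW gn w * (evalW gn w')⁻¹)
  calc evalW gn w * (evalW gn w')⁻¹ * mem (pt k)
      = evalW gn w * ((evalW gn w')⁻¹ * mem (pt k) * evalW gn w') * (evalW gn w')⁻¹ := by group
    _ = evalW gn w * ((evalW gn w)⁻¹ * mem (pt k) * evalW gn w) * (evalW gn w')⁻¹ := by rw [e1]
    _ = mem (pt k) * (evalW gn w * (evalW gn w')⁻¹) := by group

end Cfsg.Agent.H3.Fischer.O8
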