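import Cfsg.Agent.H3.Fischer.Five22
import Cfsg.Agent.H3.Fischer.O8.Table

/-!
The 120 transpositions of one class: twins inside, trivial centraliser, and the group they generate
is the orthogonal group of plus type in dimension eight over two elements.
-/

set_option autoImplicit false
set_option maxRecDepth 100000

namespace Cfsg.Agent.H3.Fischer.O8

open Cfsg.Agent Cfsg.Agent.H93 Cfsg.Agent.H45 Cfsg.Agent.H46.Fi22Out
open Cfsg.Agent.Orthogonal (O rO)
open Cfsg.Agent.H87.OmegaEight (vecOf row root refl2 Qf up)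

/-- the field map -/
abbrev idz : ZMod 2 ≃+* ZMod 2 := RingEquiv.refl _

/-- the reflections -/
noncomputable abbrev rfl8 (i : Fin 8) : O (Qf (ZMod 2)) := H87.OmegaEight.refl idz i

/-- the vector of an index -/
def vK (k : Fin 120) : H87.OmegaEight.Idx → ZMod 2 := up idz (vecOf (row k.1).1)

/-- the reflection of an index -/
noncomputable def rk (k : Fin 120) : O (Qf (ZMod 2)) := rO (Qf (ZMod 2)) (vK k)

/-- the action of an isometry -/
noncomputable abbrev ap8 (o : O (Qf (ZMod 2))) (v : H87.OmegaEight.Idx → ZMod 2) :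
    H87.OmegaEight.Idx → ZMod 2 :=
  (o : (H87.OmegaEight.Idx → ZMod 2) ≃ₗ[ZMod 2] (H87.OmegaEight.Idx → ZMod 2)) v

theorem singular_aux : ∀ v : H87.OmegaEight.Idx → ZMod 2, H87.OmegaEight.q2 v = 0 →
    ∃ w : H87.OmegaEight.Idx → ZMod 2, H87.OmegaEight.q2 w = 1 ∧ H87.OmegaEight.q2 (v + w) = 1 := by
  decide +kernel

theorem nonsingular_index (v : H87.OmegaEight.Idx → ZMod 2) (hv : H87.OmegaEight.q2 v = 1) :
    ∃ k, vK k = v := by
  rcases H87.OmegaEight.rows_cover v with q | ⟨hlt, hk⟩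
  · rw [hv] at q; exact absurd q one_ne_zero
  · exact ⟨⟨_, hlt⟩, hk⟩

theorem fix_all {o : O (Qf (ZMod 2))} (h : ∀ k, ap8 o (vK k) = vK k) (v : H87.OmegaEight.Idx → ZMod 2) :
    ap8 o v = v := by
  have hns : ∀ w, H87.OmegaEight.q2 w = 1 → ap8 o w = w := fun w hw => by
    obtain ⟨k, rfl⟩ := nonsingular_index w hw
    exact h k
  rcases (show H87.OmegaEight.q2 v = 0 ∨ H87.OmegaEight.q2 v = 1 by
    revert v; decide +kernel) with q | q
  · obtain ⟨w, hw, hvw⟩ := singular_aux v q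
    have h1 := hns _ hvw
    simp only [ap8, map_add] at h1
    have h2 := hns w hw
    simp only [ap8] at h2 ⊢
    rw [h2] at h1
    exact add_right_cancel h1
  · exact hns v q

/-- the index of a generator -/
def ix (i : Fin 8) : Fin 120 := ⟨i.1, by omega⟩

theorem rk_ix (i : Fin 8) : rk (ix i) = rfl8 i := by
  simp only [rk, vK, ix, rfl8, H87.OmegaEight.refl, row_root]

theorem rk_step (i : Fin 8) (k : Fin 120) : rfl8 i * rk k * rfl8 i = rk (actK i k) := by
  simp only [rk, vK]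
  rw [H87.OmegaEight.refl_conj, act_vec]

theorem row_parent (k : Fin 120) : k.1 < 8 ∨ ∃ i : Fin 8, ∃ j : Fin 120, j.1 < k.1 ∧ actK i j = k := by
  by_cases hk : k.1 < 8
  · exact Or.inl hk
  obtain ⟨h8, h | ⟨hlt, he⟩⟩ := H87.OmegaEight.rows_ok k
  · exfalso
    have := vec_inj k (ix ⟨_, h8⟩) (h.trans (row_root ⟨_, h8⟩).symm)
    have h9 := congrArg Fin.val this
    simp only [ix] at h9
    omega
  · refine Or.inr ⟨⟨_, h8⟩, ⟨_, hlt.trans k.isLt⟩, hlt, vec_inj _ k ?_⟩
    rw [← act_vec]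
    exact he.symm

/-- an index statement holds everywhere when it holds on the eight and is preserved by their action -/
theorem ix_induct {p : Fin 120 → Prop} (h0 : ∀ i, p (ix i)) (hs : ∀ i k, p k → p (actK i k))
    (k : Fin 120) : p k := by
  obtain ⟨n, hn⟩ : ∃ n, n = k.1 := ⟨_, rfl⟩
  induction n using Nat.strong_induction_on generalizing k with
  | _ n ih =>
    rcases row_parent k with hk | ⟨i, j, hj, rfl⟩
    · exact h0 ⟨k.1, hk⟩
    · exact hs i j (ih j.1 (by omega) j rfl)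

variable {G : Type*} [Group G] {D : Set G} {gn : ℕ → G} {mem : Fin 3510 → G} (T : Tbl D gn mem)

include T

theorem pk_step (htt : TT D) (i : Fin 8) (k : Fin 120) :
    pk mem (ix i) * pk mem k * pk mem (ix i) = pk mem (actK i k) := by
  have := T.move (mW (ix i).1) (mW_lt _) (pt k) (pt (actK i k)) (act_pts i k)
  rwa [T.eval_mW, htt.inv_eq (a := pk mem (ix i)) (T.mem_D _)] at this

omit T in
theorem pk_inj (T : Tbl D gn mem) {k l : Fin 120} (h : pk mem k = pk mem l) : k = l :=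
  pt_inj (T.inj h)

/-- commutation is read on the table -/
theorem pk_comm_iff (htt : TT D) (k l : Fin 120) :
    Commute (pk mem k) (pk mem l) ↔ wk (mW k.1) (pts.getD l.1 0) = pts.getD l.1 0 := by
  obtain ⟨φ, R⟩ := exists_rep
  have hlt : wk (mW k.1) (pt l).1 < 3510 := by
    rw [wk, ← R.walk (mW_lt k) (pt l)]
    exact Fin.isLt _
  have e1 := T.move (mW k.1) (mW_lt k) (pt l) ⟨_, hlt⟩ rfl
  rw [T.eval_mW, htt.inv_eq (a := pk mem k) (T.mem_D _)] at e1
  constructor
  · intro hc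
    have : mem ⟨_, hlt⟩ = mem (pt l) := by
      rw [← e1]
      show pk mem k * pk mem l * pk mem k = pk mem l
      rw [hc.eq, mul_assoc, htt.sq (pk mem k) (T.mem_D _), mul_one]
    exact congrArg Fin.val (T.inj this)
  · intro hw
    have : (⟨_, hlt⟩ : Fin 3510) = pt l := Fin.ext hw
    rw [this] at e1
    show pk mem k * pk mem l = pk mem l * pk mem k
    calc pk mem k * pk mem l = pk mem k * pk mem l * (pk mem k * pk mem k) := by
          rw [htt.sq (pk mem k) (T.mem_D _), mul_one]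
      _ = pk mem k * mem (pt l) * pk mem k * pk mem k := by simp only [pk, mul_assoc]
      _ = pk mem l * pk mem k := by rw [e1]; rfl

/-- the index of a point of a chain -/
theorem exists_chains (htt : TT D) :
    ∃ φ ψ : Equiv.Perm (Fin (4 + 1)) →* G, Function.Injective φ ∧ Function.Injective ψ ∧
      members φ ⊆ D ∧ members ψ ⊆ D ∧ (∀ σ τ, Commute (φ σ) (ψ τ)) ∧
      (∀ i : Fin 4, φ (H66.adjSwap 4 i.1) = pk mem ⟨chainA.getD i.1 0, (chain_lt i).1⟩) ∧
      ∀ i : Fin 4, ψ (H66.adjSwap 4 i.1) = pk mem ⟨chainB.getD i.1 0, (chain_lt i).2⟩ := by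
  let a : ℕ → G := fun n => if hn : n < 4 then pk mem ⟨chainA.getD n 0, (chain_lt ⟨n, hn⟩).1⟩ else 1
  let b : ℕ → G := fun n => if hn : n < 4 then pk mem ⟨chainB.getD n 0, (chain_lt ⟨n, hn⟩).2⟩ else 1
  have ea : ∀ n (hn : n < 4), a n = pk mem ⟨chainA.getD n 0, (chain_lt ⟨n, hn⟩).1⟩ := fun n hn => dif_pos hn
  have eb : ∀ n (hn : n < 4), b n = pk mem ⟨chainB.getD n 0, (chain_lt ⟨n, hn⟩).2⟩ := fun n hn => dif_pos hn
  obtain ⟨φ, hi, hφ, hD⟩ := exists_emb htt (le_refl 4) a
    (fun i hi => by rw [ea i hi]; exact T.mem_D _)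
    (fun i hi c => by
      rw [ea i (by omega), ea (i + 1) hi, pk_comm_iff T htt] at c
      exact ((chainA_comm ⟨i, by omega⟩ ⟨i + 1, hi⟩).mp c) (Or.inl rfl))
    (fun i j hij hj => by
      rw [ea i (by omega), ea j hj, pk_comm_iff T htt]
      exact (chainA_comm ⟨i, by omega⟩ ⟨j, hj⟩).mpr (by simp only; omega))
  obtain ⟨ψ, hi', hψ, hD'⟩ := exists_emb htt (le_refl 4) b
    (fun i hi => by rw [eb i hi]; exact T.mem_D _)
    (fun i hi c => by
      rw [eb i (by omega), eb (i + 1) hi, pk_comm_iff T htt] at c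
      exact ((chainB_comm ⟨i, by omega⟩ ⟨i + 1, hi⟩).mp c) (Or.inl rfl))
    (fun i j hij hj => by
      rw [eb i (by omega), eb j hj, pk_comm_iff T htt]
      exact (chainB_comm ⟨i, by omega⟩ ⟨j, hj⟩).mpr (by simp only; omega))
  refine ⟨φ, ψ, hi, hi', hD, hD', fun σ τ => ?_, fun i => by rw [hφ i.1 i.2, ea i.1 i.2], fun i => by rw [hψ i.1 i.2, eb i.1 i.2]⟩
  refine (commute_range_of_chain φ (g := ψ τ) (fun i hi => ?_) σ).symm
  refine (commute_range_of_chain ψ (g := φ (H66.adjSwap 4 i)) (fun j hj => ?_) τ).symm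
  rw [hφ i hi, hψ j hj, ea i hi, eb j hj, pk_comm_iff T htt]
  exact chainAB_comm ⟨i, hi⟩ ⟨j, hj⟩

variable {K : Type*} [Field K] [Fintype K] (h : Geo22 D K) [Finite G]

include h

theorem exists_twin_tbl :
    ∃ φ ψ, Twin D φ ψ ∧
      (∀ i : Fin 4, φ (H66.adjSwap 4 i.1) = pk mem ⟨chainA.getD i.1 0, (chain_lt i).1⟩) ∧
      ∀ i : Fin 4, ψ (H66.adjSwap 4 i.1) = pk mem ⟨chainB.getD i.1 0, (chain_lt i).2⟩ := by
  obtain ⟨φ, ψ, hi, hi', hD, hD', hc, eA, eB⟩ := exists_chains T h.core.tt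
  refine ⟨φ, ψ, ⟨hi, hi', hc, ?_, ?_⟩, eA, eB⟩
  · exact fix_eq_members h (card_zpowers_cyc hi) hi'
      (fix_subset_of_comm hD' (fun σ τ => (hc τ σ).symm) ⟨cyc, rfl⟩)
  · exact fix_eq_members h (card_zpowers_cyc hi') hi (fix_subset_of_comm hD hc ⟨cyc, rfl⟩)

/-- the class has trivial centraliser -/
theorem class_cent {z : G} (hz : ∀ k : Fin 120, k.1 < 8 → Commute z (pk mem k)) : z = 1 := by
  have hall : ∀ k, Commute z (pk mem k) := ix_induct (fun i => hz _ i.isLt) fun i k hk => by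
    rw [← pk_step T h.core.tt]
    exact ((hz _ i.isLt).mul_right hk).mul_right (hz _ i.isLt)
  obtain ⟨φ, ψ, hT, eA, eB⟩ := exists_twin_tbl T h
  have hmem : z ∈ Subgroup.centralizer (members φ) ⊓ Subgroup.centralizer (members ψ) := by
    constructor <;> refine Subgroup.mem_centralizer_iff.mpr ?_ <;> rintro _ ⟨s, -, rfl⟩
    · exact (commute_range_of_chain φ (fun i hi => by rw [eA ⟨i, hi⟩]; exact hall _) s).symm.eq
    · exact (commute_range_of_chain ψ (fun i hi => by rw [eB ⟨i, hi⟩]; exact hall _) s).symm.eq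
  have hc := (twin_counts h hT).1
  rw [cent_card_aux h hT] at hc
  rw [Subgroup.eq_bot_of_card_eq (Subgroup.centralizer (members φ) ⊓ Subgroup.centralizer (members ψ))
    (by omega), Subgroup.mem_bot] at hmem
  exact hmem

/-- the orthogonal group in the group -/
theorem exists_rho :
    ∃ ρ : O (Qf (ZMod 2)) →* G, Function.Injective ρ ∧ (∀ k, ρ (rk k) = pk mem k) ∧
      ∀ o k, ∃ k', ρ o * pk mem k * (ρ o)⁻¹ = pk mem k' := by
  classical
  have htt := h.core.tt
  let Sset : Set (G × O (Qf (ZMod 2))) := Set.range fun i : Fin 8 => (pk mem (ix i), rfl8 i)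
  let P := Subgroup.closure Sset
  have inv : ∀ x ∈ P, ∀ k, ∃ k', ap8 x.2 (vK k) = vK k' ∧
      x.1 * pk mem k * x.1⁻¹ = pk mem k' := by
    intro x hx
    induction hx using Subgroup.closure_induction with
    | one => exact fun k => ⟨k, rfl, by simp⟩
    | mem y hy =>
      obtain ⟨i, rfl⟩ := hy
      intro k
      refine ⟨actK i k, ?_, ?_⟩
      · exact (H87.OmegaEight.rO_up idz (H87.OmegaEight.root_value i) _).trans
          (congrArg (up idz) (act_vec i k))
      · show pk mem (ix i) * pk mem k * (pk mem (ix i))⁻¹ = _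
        rw [htt.inv_eq (a := pk mem (ix i)) (T.mem_D _), pk_step T htt]
    | mul a b _ _ iha ihb =>
      intro k
      obtain ⟨k1, v1, g1⟩ := ihb k
      obtain ⟨k2, v2, g2⟩ := iha k1
      refine ⟨k2, ?_, ?_⟩
      · show ap8 a.2 (ap8 b.2 (vK k)) = _
        rw [v1, v2]
      · show a.1 * b.1 * pk mem k * (a.1 * b.1)⁻¹ = _
        rw [← g2, ← g1]; group
    | inv a _ iha =>
      intro k
      choose s hs1 hs2 using iha
      have hsi : Function.Injective s := fun p q e => by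
        have := (hs1 p).trans ((congrArg vK e).trans (hs1 q).symm)
        exact vec_inj p q (LinearEquiv.injective _ this)
      obtain ⟨j, rfl⟩ := (Finite.injective_iff_surjective.mp hsi) k
      refine ⟨j, ?_, ?_⟩
      · show ((a.2 : O (Qf (ZMod 2))).1).symm (vK (s j)) = _
        rw [← hs1 j, LinearEquiv.symm_apply_apply]
      · show a.1⁻¹ * pk mem (s j) * a.1⁻¹⁻¹ = _
        rw [← hs2 j]; group
  let π2 : ↥P →* O (Qf (ZMod 2)) := (MonoidHom.snd _ _).comp P.subtype
  let π1 : ↥P →* G := (MonoidHom.fst _ _).comp P.subtype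
  have hs : Function.Surjective π2 := by
    rw [← MonoidHom.range_eq_top, eq_top_iff, ← H87.OmegaEight.refl_generate idz, Subgroup.closure_le]
    rintro _ ⟨i, rfl⟩
    exact ⟨⟨(pk mem (ix i), rfl8 i), Subgroup.subset_closure ⟨i, rfl⟩⟩, rfl⟩
  have h2 : Function.Injective π2 := by
    rw [← π2.ker_eq_bot_iff, eq_bot_iff]
    rintro ⟨⟨g, o⟩, hx⟩ (ho : o = 1)
    subst ho
    have hg : g = 1 := class_cent T h fun k _ => by
      obtain ⟨k', hv, hk'⟩ := inv _ hx k
      have : k = k' := vec_inj k k' hv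
      subst this
      exact mul_inv_eq_iff_eq_mul.mp hk'
    subst hg
    exact Subgroup.mem_bot.mpr rfl
  have h1 : Function.Injective π1 := by
    rw [← π1.ker_eq_bot_iff, eq_bot_iff]
    rintro ⟨⟨g, o⟩, hx⟩ (hg : g = 1)
    subst hg
    have ho : o = 1 := by
      have hall : ∀ k, ap8 o (vK k) = vK k := fun k => by
        obtain ⟨k', hv, hk'⟩ := inv _ hx k
        rw [one_mul, inv_one, mul_one] at hk'
        rw [hv, pk_inj T hk']
      exact Orthogonal.O.ext_app fun v => fix_all hall v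
    subst ho
    exact Subgroup.mem_bot.mpr rfl
  let ρ : O (Qf (ZMod 2)) →* G := π1.comp (MulEquiv.ofBijective π2 ⟨h2, hs⟩).symm.toMonoidHom
  have hρ : ∀ x : ↥P, ρ (π2 x) = π1 x := fun x => by
    show π1 ((MulEquiv.ofBijective π2 ⟨h2, hs⟩).symm (MulEquiv.ofBijective π2 ⟨h2, hs⟩ x)) = π1 x
    rw [MulEquiv.symm_apply_apply]
  have hgen : ∀ i, ρ (rfl8 i) = pk mem (ix i) := fun i =>
    hρ ⟨(pk mem (ix i), rfl8 i), Subgroup.subset_closure ⟨i, rfl⟩⟩
  refine ⟨ρ, h1.comp (MulEquiv.injective _), ?_, fun o k => ?_⟩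
  · refine ix_induct (fun i => ?_) fun i k hk => ?_
    · rw [rk_ix]
      exact hgen i
    · rw [← rk_step, map_mul, map_mul, hk, ← pk_step T htt, hgen i]
  · obtain ⟨x, rfl⟩ := hs o
    obtain ⟨k', -, hk'⟩ := inv _ x.2 k
    exact ⟨k', by rw [hρ]; exact hk'⟩

end Cfsg.Agent.H3.Fischer.O8
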