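import Cfsg.Prelude.Def_KGroupFacts
import Cfsg.Agent.Orthogonal.AutOutPlusAll
import Cfsg.Agent.H3.Fischer.O8.Class

/-!
The subgroup generated by the class of 120 transpositions and one transposition outside it is the
full automorphism group of the commutator subgroup of the orthogonal group.
-/

set_option autoImplicit false
set_option maxRecDepth 100000

namespace Cfsg.Agent.H3.Fischer.O8

open Cfsg.Agent Cfsg.Agent.H93 Cfsg.Agent.H45
open Cfsg.Agent.Orthogonal (O rO omegaEquiv)
open Cfsg.Agent.H87.OmegaEight (Qf)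

/-- the commutator subgroup over two elements -/
abbrev Om8 : Subgroup (Cfsg.isometryGroup (ZMod 2) (Cfsg.quadFormPlus 4 (ZMod 2))) :=
  Cfsg.Omega (ZMod 2) (Cfsg.quadFormPlus 4 (ZMod 2))

theorem center_om8 : Subgroup.center ↥Om8 = ⊥ := by
  rw [eq_bot_iff]
  intro g hg
  rw [Subgroup.mem_bot]
  refine Subtype.ext (Subtype.ext (Units.ext ?_))
  rcases Orthogonal.center_omega_cases (Q := Orthogonal.formPlus (ZMod 2) 4)
    (Orthogonal.formPlus_nondeg _ _) (by rw [Orthogonal.finrank_formPlus]; norm_num) hg with e | e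
  · exact e
  · refine e.trans ?_
    ext i j
    rw [Matrix.neg_apply, ZMod.neg_eq_self_mod_two]
    rfl

theorem card_O8 : Nat.card (O (Qf (ZMod 2))) = 2 * Nat.card ↥Om8 := by
  have hn : Module.finrank (ZMod 2) (H87.OmegaEight.Idx → ZMod 2) = 2 * 4 :=
    Orthogonal.finrank_formPlus (ZMod 2) 4
  have h := Subgroup.card_mul_index (commutator (O (Qf (ZMod 2))))
  rw [Orthogonal.index_commutator_eq_two (Orthogonal.formPlus_nondeg _ _)
    (Orthogonal.reflGroup_eq_top (Orthogonal.formPlus_nondeg _ _) (Or.inr (by rw [hn]; norm_num)))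
    (by decide) (by rw [hn]; norm_num)] at h
  rw [← h, mul_comm]
  congr 1
  exact (Nat.card_congr (omegaEquiv (Qf (ZMod 2))).toEquiv).symm

theorem finite_mulAut_om8 : Finite (MulAut ↥Om8) :=
  Finite.of_injective (fun f => (f : ↥Om8 → ↥Om8)) DFunLike.coe_injective

theorem card_mulAut_le : Nat.card (MulAut ↥Om8) ≤ 6 * Nat.card ↥Om8 := by
  let π : ↥Om8 ≃* Cfsg.POmega (ZMod 2) (Cfsg.quadFormPlus 4 (ZMod 2)) :=
    (QuotientGroup.quotientBot).symm.trans (QuotientGroup.quotientMulEquivOfEq center_om8.symm)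
  rw [Nat.card_congr (MulAut.congr π).toEquiv, Nat.card_congr π.toEquiv]
  obtain ⟨e⟩ := (Orthogonal.out_formPlus_eight (F := ZMod 2) (p := 2) (f := 1) le_rfl
    (by simp [ZMod.card])).1 rfl
  have hout : Nat.card (Cfsg.Out (Cfsg.POmega (ZMod 2) (Cfsg.quadFormPlus 4 (ZMod 2)))) = 6 := by
    rw [Nat.card_congr e.toEquiv, Nat.card_prod, Nat.card_perm, Nat.card_fin,
      Nat.card_congr Multiplicative.toAdd, Nat.card_zmod]
    rfl
  have hinn : Nat.card ↥(Cfsg.Inn (Cfsg.POmega (ZMod 2) (Cfsg.quadFormPlus 4 (ZMod 2)))) ≤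
      Nat.card (Cfsg.POmega (ZMod 2) (Cfsg.quadFormPlus 4 (ZMod 2))) :=
    Nat.card_le_card_of_surjective _ (MonoidHom.rangeRestrict_surjective _)
  rw [Subgroup.card_eq_card_quotient_mul_card_subgroup
    (Cfsg.Inn (Cfsg.POmega (ZMod 2) (Cfsg.quadFormPlus 4 (ZMod 2))))]
  exact Nat.mul_le_mul (le_of_eq hout) hinn

variable {G : Type*} [Group G] {D : Set G} {gn : ℕ → G} {mem : Fin 3510 → G}

/-- the subgroup -/
def bigI (gn : ℕ → G) (mem : Fin 3510 → G) : Subgroup G :=
  Subgroup.closure (Set.range (fun i : Fin 8 => pk mem (ix i)) ∪ {gn 7})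

theorem pk_mem_I (k : Fin 120) (T : Tbl D gn mem) (htt : TT D) : pk mem k ∈ bigI gn mem := by
  revert k
  refine ix_induct (fun i => Subgroup.subset_closure (Or.inl ⟨i, rfl⟩)) fun i k hk => ?_
  rw [← pk_step T htt]
  exact mul_mem (mul_mem (Subgroup.subset_closure (Or.inl ⟨i, rfl⟩)) hk) (Subgroup.subset_closure (Or.inl ⟨i, rfl⟩))

variable (T : Tbl D gn mem)

include T

theorem bigI_D : Cfsg.IsDSubgroup D (bigI gn mem) := by
  refine le_antisymm ((Subgroup.closure_le _).mpr fun d hd => hd.2) ?_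
  conv_lhs => rw [bigI]
  refine Subgroup.closure_mono ?_
  rintro _ (⟨i, rfl⟩ | rfl)
  · exact ⟨T.mem_D _, Subgroup.subset_closure (Or.inl ⟨i, rfl⟩)⟩
  · exact ⟨T.gn_D, Subgroup.subset_closure (Or.inr rfl)⟩

theorem sw_sq : gn 7 * gn 7 = 1 := by
  conv_lhs => arg 2; rw [← T.inv]
  exact mul_inv_cancel _

theorem eval_g2 (htt : TT D) :
    evalW gn (gW 2) = gn 7 * pk mem ⟨chainA.getD 0 0, (chain_lt 0).1⟩ * gn 7 ∧ evalW gn swW = gn 7 := by
  have hs : evalW gn swW = gn 7 := by simp [swW, evalW]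
  refine ⟨?_, hs⟩
  show evalW gn (swW ++ mW (chainA.getD 0 0) ++ swW) = _
  rw [evalW_append, evalW_append, hs]
  congr 2
  exact T.eval_mW ⟨_, _⟩

theorem inC_of (k : Fin 120) : inC (pts.getD k.1 0) = true := by
  clear T
  revert k
  decide +kernel

variable {K : Type*} [Field K] [Fintype K] (h : Geo22 D K) [Finite G]

include h

theorem range_le_I {ρ : O (Qf (ZMod 2)) →* G} (hρ : ∀ k, ρ (rk k) = pk mem k) :
    ρ.range ≤ bigI gn mem := by
  rw [MonoidHom.range_eq_map, ← H87.OmegaEight.refl_generate idz, MonoidHom.map_closure, Subgroup.closure_le]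
  rintro _ ⟨_, ⟨i, rfl⟩, rfl⟩
  show ρ (rfl8 i) ∈ bigI gn mem
  rw [← rk_ix, hρ]
  exact Subgroup.subset_closure (Or.inl ⟨i, rfl⟩)

/-- the automorphism group -/
theorem bigI_iso : Nonempty (↥(bigI gn mem) ≃* MulAut ↥Om8) := by
  classical
  have htt := h.core.tt
  haveI := finite_mulAut_om8
  obtain ⟨ρ, hρi, hρ, hinvρ⟩ := exists_rho T h
  set I := bigI gn mem with hI
  have hcen := fun {z : G} => class_cent T h (z := z)
  set b := gn 7 with hb
  have hbI : b ∈ I := Subgroup.subset_closure (Or.inr rfl)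
  set F := (commutator (O (Qf (ZMod 2)))).map ρ with hF
  -- pairs
  have hab : ∀ k, Abelianization.of (rk k) = Abelianization.of (rfl8 7) := by
    refine ix_induct (fun i => ?_) fun i k hk => ?_
    · rw [rk_ix]
      have := H87.OmegaEight.pair_mem idz i 7
      rw [← Abelianization.ker_of, MonoidHom.mem_ker, map_mul] at this
      calc Abelianization.of (rfl8 i) = Abelianization.of (rfl8 i) * (Abelianization.of (rfl8 7) * Abelianization.of (rfl8 7)) := by
            rw [← map_mul Abelianization.of (rfl8 7), H87.OmegaEight.refl_sq, map_one, mul_one]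
        _ = Abelianization.of (rfl8 7) := by rw [← mul_assoc, this, one_mul]
    · rw [← rk_step, map_mul, map_mul, mul_right_comm, ← map_mul, H87.OmegaEight.refl_sq, map_one,
        one_mul, hk]
  have hpair : ∀ k l, pk mem k * pk mem l ∈ F := by
    intro k l
    refine ⟨rk k * rk l, ?_, by rw [map_mul, hρ, hρ]⟩
    show rk k * rk l ∈ commutator (O (Qf (ZMod 2)))
    rw [← Abelianization.ker_of, MonoidHom.mem_ker, map_mul, hab, hab, ← map_mul,
      H87.OmegaEight.refl_sq, map_one]
  have heven : ∀ (n : ℕ) (l : List (Fin 120)), l.length = 2 * n → (l.map (pk mem)).prod ∈ F := by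
    intro n
    induction n with
    | zero => intro l hl; rw [List.length_eq_zero_iff.mp hl]; exact one_mem _
    | succ n ih =>
      intro l hl
      match l, hl with
      | k :: k' :: l', hl =>
        simp only [List.map_cons, List.prod_cons, ← mul_assoc]
        exact mul_mem (hpair k k') (ih l' (by simp only [List.length_cons] at hl; omega))
  -- F is normal
  have hgenF : F = Subgroup.closure (Set.range fun i : Fin 8 => pk mem (ix 7) * pk mem (ix i)) := by
    rw [hF, ← Subgroup.range_subtype (commutator (O (Qf (ZMod 2)))), MonoidHom.map_range,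
      MonoidHom.range_eq_map, ← H87.OmegaEight.even_generate idz, MonoidHom.map_closure]
    congr 1
    rw [← Set.range_comp]
    congr 1
    funext i
    show ρ (rfl8 7 * rfl8 i) = _
    rw [← rk_ix, ← rk_ix, map_mul, hρ, hρ]
  have hconj : ∀ g ∈ I, ∀ x ∈ F, g * x * g⁻¹ ∈ F := by
    have hb' : ∀ x ∈ F, b * x * b⁻¹ ∈ F := by
      have : F ≤ F.comap (MulAut.conj b).toMonoidHom := by
        conv_lhs => rw [hgenF]
        rw [Subgroup.closure_le]
        rintro _ ⟨i, rfl⟩
        show b * (pk mem (ix 7) * pk mem (ix i)) * b⁻¹ ∈ F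
        by_cases hi : i.1 < 7
        swap
        · have : i = 7 := Fin.ext (by have := i.isLt; show i.1 = 7; omega)
          rw [this, htt.sq (pk mem (ix 7)) (T.mem_D _), mul_one, mul_inv_cancel]
          exact one_mem _
        have hl := List.all_eq_true.mp lists_lt.2
        have hmemL : cjList.getD i.1 [] ∈ cjList := by
          have hlen : cjList.length = 7 := rfl
          rw [List.getD_eq_getElem _ _ (by omega)]
          exact List.getElem_mem _
        have hl' := hl _ hmemL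
        simp only [Bool.and_eq_true, List.all_eq_true, Nat.beq_eq] at hl'
        have hlt : ∀ k ∈ cjList.getD i.1 [], k < 120 := fun k hk => by simpa using hl'.1 k hk
        have e := T.same (fun z hz => hcen hz) (w := swW ++ mW 7 ++ mW i.1 ++ swW) ?_ (lW_lt hlt) (cj_ok ⟨i.1, hi⟩)
        swap
        · intro l hl
          simp only [List.mem_append, swW, List.mem_singleton] at hl
          rcases hl with ((rfl | q) | q) | rfl
          · norm_num
          · exact mW_lt (ix 7) l q
          · exact mW_lt (ix i) l q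
          · norm_num
        obtain ⟨L, hL⟩ : ∃ L : List (Fin 120), L.map Fin.val = cjList.getD i.1 [] :=
          ⟨(cjList.getD i.1 []).attach.map fun k => (⟨k.1, hlt k.1 k.2⟩ : Fin 120), by
            rw [List.map_map]; exact List.attach_map_subtype_val _⟩
        have hs : evalW gn swW = b := by simp [swW, evalW, hb]
        rw [evalW_append, evalW_append, evalW_append, hs, show evalW gn (mW 7) = pk mem (ix 7) from T.eval_mW (ix 7),
          show evalW gn (mW i.1) = pk mem (ix i) from T.eval_mW (ix i), ← hL, T.eval_lW] at e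
        rw [T.inv 7, ← mul_assoc, ← hb, e]
        refine heven (L.length / 2) L ?_
        have := hl'.2
        rw [← hL, List.length_map] at this
        omega
      exact fun x hx => this hx
    intro g hg
    rw [hI, bigI] at hg
    induction hg using Subgroup.closure_induction'' with
    | one => exact fun x hx => by simpa using hx
    | mem y hy =>
      rcases hy with ⟨i, rfl⟩ | rfl
      · rintro _ ⟨o, ho, rfl⟩
        exact ⟨rk (ix i) * o * (rk (ix i))⁻¹, Subgroup.Normal.conj_mem inferInstance o ho _,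
          by rw [map_mul, map_mul, map_inv, hρ]⟩
      · exact hb'
    | inv_mem y hy =>
      rcases hy with ⟨i, rfl⟩ | rfl
      · rintro _ ⟨o, ho, rfl⟩
        exact ⟨(rk (ix i))⁻¹ * o * (rk (ix i))⁻¹⁻¹, Subgroup.Normal.conj_mem inferInstance o ho _,
          by simp [map_mul, map_inv, hρ]⟩
      · intro x hx
        have e : (gn 7)⁻¹ = b := T.inv 7
        rw [e]
        exact hb' x hx
    | mul a c _ _ iha ihc =>
      intro x hx
      rw [show a * c * x * (a * c)⁻¹ = a * (c * x * c⁻¹) * a⁻¹ by group]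
      exact iha _ (ihc x hx)
  -- trivial centraliser of F
  have hCF : ∀ z : G, (∀ x ∈ F, Commute z x) → z = 1 := by
    intro z hz
    obtain ⟨φ, ψ, hT, eA, eB⟩ := exists_twin_tbl T h
    have hA : ∀ i j : ℕ, i < 4 → j < 4 → φ (H66.adjSwap 4 i * H66.adjSwap 4 j) ∈ F := fun i j hi hj => by
      rw [map_mul, eA ⟨i, hi⟩, eA ⟨j, hj⟩]; exact hpair _ _
    have hB : ∀ i j : ℕ, i < 4 → j < 4 → ψ (H66.adjSwap 4 i * H66.adjSwap 4 j) ∈ F := fun i j hi hj => by
      rw [map_mul, eB ⟨i, hi⟩, eB ⟨j, hj⟩]; exact hpair _ _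
    have hcyc : cyc = H66.adjSwap 4 0 * H66.adjSwap 4 1 * (H66.adjSwap 4 2 * H66.adjSwap 4 3) := by
      rw [cyc, ← mul_assoc]
    have hYF : φ cyc ∈ F ∧ ψ cyc ∈ F := by
      constructor <;> rw [hcyc, map_mul]
      · exact mul_mem (hA 0 1 (by norm_num) (by norm_num)) (hA 2 3 (by norm_num) (by norm_num))
      · exact mul_mem (hB 0 1 (by norm_num) (by norm_num)) (hB 2 3 (by norm_num) (by norm_num))
    have hEF : (pairHom φ ψ hT.comm).range ≤ F := by
      rintro _ ⟨⟨⟨a, ⟨m, rfl⟩⟩, ⟨c, ⟨n, rfl⟩⟩⟩, rfl⟩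
      rw [pairHom_apply, map_zpow, map_zpow]
      exact mul_mem (zpow_mem hYF.1 m) (zpow_mem hYF.2 n)
    have hzE : z ∈ (pairHom φ ψ hT.comm).range := by
      rw [← pair_self_cent h hT]
      exact Subgroup.mem_centralizer_iff.mpr fun x hx => (hz x (hEF hx)).symm.eq
    obtain ⟨⟨p, q⟩, rfl⟩ := hzE
    rw [pairHom_apply] at hz ⊢
    have key : ∀ n < 5, cyc ^ n * (H66.adjSwap 4 0 * H66.adjSwap 4 1) =
        H66.adjSwap 4 0 * H66.adjSwap 4 1 * cyc ^ n → n = 0 := by decide +kernel
    have hp : p.1 = 1 := by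
      obtain ⟨n, hn, e⟩ := exists_pow_cyc p
      have c1 := hz _ (hA 0 1 (by norm_num) (by norm_num))
      have c2 : Commute (φ p.1) (φ (H66.adjSwap 4 0 * H66.adjSwap 4 1)) := by
        simpa using c1.mul_left (hT.comm (H66.adjSwap 4 0 * H66.adjSwap 4 1) q.1).symm.inv_left
      rw [commute_iff_perm hT.inj, e] at c2
      rw [e, key n hn c2, pow_zero]
    have hq : q.1 = 1 := by
      obtain ⟨n, hn, e⟩ := exists_pow_cyc q
      have c1 := hz _ (hB 0 1 (by norm_num) (by norm_num))
      rw [hp, map_one, one_mul, commute_iff_perm hT.inj', e] at c1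
      rw [e, key n hn c1, pow_zero]
    rw [hp, hq, map_one, map_one, one_mul]
  -- the homomorphism
  have hFI : ∀ g : ↥I, g.1 ∈ Subgroup.normalizer (F : Set G) := fun g =>
    norm_of_map_le (by rintro _ ⟨x, hx, rfl⟩; exact hconj g.1 g.2 x hx)
  let Φ : ↥I →* MulAut ↥F := (Subgroup.normalizerMonoidHom F).comp
    (I.subtype.codRestrict (Subgroup.normalizer (F : Set G)) hFI)
  have hΦ : Function.Injective Φ := by
    rw [← Φ.ker_eq_bot_iff, eq_bot_iff]
    intro g hg
    refine Subgroup.mem_bot.mpr (Subtype.ext (hCF g.1 fun x hx => ?_))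
    have : (⟨g.1, hFI g⟩ : ↥(Subgroup.normalizer (F : Set G))) ∈ (Subgroup.normalizerMonoidHom F).ker := hg
    rw [Subgroup.normalizerMonoidHom_ker] at this
    exact (Subgroup.mem_centralizer_iff.mp this x hx).symm
  let eF : ↥Om8 ≃* ↥F := (omegaEquiv (Qf (ZMod 2))).trans (Subgroup.equivMapOfInjective _ ρ hρi)
  haveI : Finite (MulAut ↥F) := Finite.of_injective (fun f => (f : ↥F → ↥F)) DFunLike.coe_injective
  -- the order
  have hρI := range_le_I T h hρ
  have hout : ∀ g : G, ∀ w : List ℕ, (∀ l ∈ w, l < 9) → evalW gn w = g →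
      inC (wk w (pts.getD 0 0)) = false → g ∉ ρ.range := by
    intro g w hw hg hf ⟨o, ho⟩
    obtain ⟨φ', R⟩ := H46.Fi22Out.exists_rep
    have hlt : wk w (pt (0 : Fin 120)).1 < 3510 := by
      rw [wk, ← R.walk hw (pt (0 : Fin 120))]; exact Fin.isLt _
    have e := T.move w hw (pt (0 : Fin 120)) ⟨_, hlt⟩ rfl
    obtain ⟨k', hk'⟩ := hinvρ o⁻¹ 0
    rw [map_inv, inv_inv, ho, ← hg] at hk'
    have := inC_of T k'
    have e2 : wk w (pts.getD 0 0) = pts.getD k'.1 0 := congrArg Fin.val (T.inj (e.symm.trans hk'))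
    rw [← e2, hf] at this
    exact Bool.false_ne_true this
  obtain ⟨eg, es⟩ := eval_g2 T htt
  set g3 := evalW gn (gW 2)
  have hg3I : g3 ∈ I := by
    rw [eg]
    exact mul_mem (mul_mem hbI (pk_mem_I _ T htt)) hbI
  have hswlt : ∀ l ∈ swW, l < 9 := by simp [swW]
  have hg2lt : ∀ l ∈ gW 2, l < 9 := by
    intro l hl
    simp only [gW, List.mem_append] at hl
    rcases hl with (q | q) | q
    · exact hswlt l q
    · exact mW_lt ⟨_, (chain_lt 0).1⟩ l q
    · exact hswlt l q
  have n1 : b ∉ ρ.range := hout b swW hswlt es out_one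
  have n2 : g3 ∉ ρ.range := fun q => hout g3⁻¹ (gW 2).reverse (fun l hl => hg2lt l (List.mem_reverse.mp hl))
    (T.eval_reverse _) out_two (inv_mem q)
  have n3 : b⁻¹ * g3 ∉ ρ.range := by
    rw [T.inv 7]
    refine hout _ (swW ++ gW 2) (fun l hl => ?_) (by rw [evalW_append, es]) out_three
    rcases List.mem_append.mp hl with q | q
    exacts [hswlt l q, hg2lt l q]
  let reps : Fin 3 → G := ![1, b, g3]
  have hreps : ∀ i, reps i ∈ I := by
    intro i; fin_cases i
    exacts [one_mem _, hbI, hg3I]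
  have hdis : ∀ i j, i < j → (reps i)⁻¹ * reps j ∉ ρ.range := by
    intro i j hij
    have m1 : (1 : G)⁻¹ * b ∉ ρ.range := by rw [inv_one, one_mul]; exact n1
    have m2 : (1 : G)⁻¹ * g3 ∉ ρ.range := by rw [inv_one, one_mul]; exact n2
    fin_cases i <;> fin_cases j <;> first | exact absurd hij (by decide) | exact m1 | exact m2 | exact n3
  have h3 : 3 * Nat.card (O (Qf (ZMod 2))) ≤ Nat.card ↥I := by
    haveI : Finite (O (Qf (ZMod 2))) := Finite.of_injective ρ hρi
    refine le_trans (le_of_eq ?_) (Nat.card_le_card_of_injective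
      (fun p : Fin 3 × O (Qf (ZMod 2)) => (⟨reps p.1 * ρ p.2, mul_mem (hreps p.1) (hρI ⟨p.2, rfl⟩)⟩ : ↥I))
      fun p q e => ?_)
    · rw [Nat.card_prod, Nat.card_fin]
    · have e' : reps p.1 * ρ p.2 = reps q.1 * ρ q.2 := congrArg Subtype.val e
      rcases lt_trichotomy p.1 q.1 with c | c | c
      · refine absurd ⟨p.2 * q.2⁻¹, ?_⟩ (hdis _ _ c)
        rw [map_mul, map_inv, eq_inv_mul_iff_mul_eq, ← mul_assoc, e', mul_inv_cancel_right]
      · rw [c] at e'
        exact Prod.ext c (hρi (mul_left_cancel e'))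
      · refine absurd ⟨q.2 * p.2⁻¹, ?_⟩ (hdis _ _ c)
        rw [map_mul, map_inv, eq_inv_mul_iff_mul_eq, ← mul_assoc, ← e', mul_inv_cancel_right]
  have hle : Nat.card (MulAut ↥F) ≤ Nat.card ↥I := by
    rw [← Nat.card_congr (MulAut.congr eF).toEquiv]
    refine card_mulAut_le.trans (le_trans (le_of_eq ?_) h3)
    rw [card_O8]; ring
  have hbij : Function.Bijective Φ := (Nat.bijective_iff_injective_and_card _).mpr
    ⟨hΦ, le_antisymm (Nat.card_le_card_of_injective Φ hΦ) hle⟩
  exact ⟨(MulEquiv.ofBijective Φ hbij).trans (MulAut.congr eF).symm⟩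

end Cfsg.Agent.H3.Fischer.O8
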