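import Cfsg.Prelude.Def_EvenType
import Cfsg.Agent.S0293
import Cfsg.Agent.H3.Fischer.O8.Group

/-!
The subgroup contains the normalisers of all subgroups of a Sylow 5-subgroup.
-/

set_option autoImplicit false
set_option maxRecDepth 100000

namespace Cfsg.Agent.H3.Fischer.O8

open Cfsg.Agent Cfsg.Agent.H93 Cfsg.Agent.H45

theorem exp_cover : ∀ m < 5, ∀ n < 5, (m ≠ 0 ∨ n ≠ 0) → ∃ i : Fin 6, ∃ t < 5,
    t * (mvExp.getD i.1 []).getD 0 0 % 5 = m ∧ t * (mvExp.getD i.1 []).getD 1 0 % 5 = n := by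
  decide +kernel

theorem mv_lt : ∀ i : Fin 6, ((mvW i.1 ++ aW ++ (mvW i.1).reverse).all fun l => Nat.blt l 9) = true ∧
    ((eW ((mvExp.getD i.1 []).getD 0 0) ((mvExp.getD i.1 []).getD 1 0)).all fun l => Nat.blt l 9) = true := by
  decide +kernel

theorem gW_cases : ∀ i : Fin 6, mvClass.getD i.1 0 = 0 ∨ mvClass.getD i.1 0 = 1 ∨ mvClass.getD i.1 0 = 2 := by
  decide +kernel

theorem mvList_lt : ∀ i : Fin 6, ((mvList.getD i.1 []).all fun k => Nat.blt k 120) = true := by decide +kernel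

variable {G : Type*} [Group G] {D : Set G} {gn : ℕ → G} {mem : Fin 3510 → G} (T : Tbl D gn mem)
  {K : Type*} [Field K] [Fintype K] (h : Geo22 D K) [Finite G]

include T h

theorem eval_chainA {φ : Equiv.Perm (Fin (4 + 1)) →* G}
    (eA : ∀ i : Fin 4, φ (H66.adjSwap 4 i.1) = pk mem ⟨chainA.getD i.1 0, (chain_lt i).1⟩) :
    evalW gn aW = φ cyc := by
  have e : aW = lW ([⟨chainA.getD 0 0, (chain_lt 0).1⟩, ⟨chainA.getD 1 0, (chain_lt 1).1⟩,
      ⟨chainA.getD 2 0, (chain_lt 2).1⟩, ⟨chainA.getD 3 0, (chain_lt 3).1⟩].map (Fin.val (n := 120))) := rfl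
  rw [e, T.eval_lW, cyc, map_mul, map_mul, map_mul]
  simp only [List.map_cons, List.map_nil, List.prod_cons, List.prod_nil, mul_one, mul_assoc]
  exact congrArg₂ (· * ·) (eA 0).symm (congrArg₂ (· * ·) (eA 1).symm (congrArg₂ (· * ·) (eA 2).symm (eA 3).symm))

theorem eval_chainB {ψ : Equiv.Perm (Fin (4 + 1)) →* G}
    (eB : ∀ i : Fin 4, ψ (H66.adjSwap 4 i.1) = pk mem ⟨chainB.getD i.1 0, (chain_lt i).2⟩) :
    evalW gn bW = ψ cyc := by
  have e : bW = lW ([⟨chainB.getD 0 0, (chain_lt 0).2⟩, ⟨chainB.getD 1 0, (chain_lt 1).2⟩,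
      ⟨chainB.getD 2 0, (chain_lt 2).2⟩, ⟨chainB.getD 3 0, (chain_lt 3).2⟩].map (Fin.val (n := 120))) := rfl
  rw [e, T.eval_lW, cyc, map_mul, map_mul, map_mul]
  simp only [List.map_cons, List.map_nil, List.prod_cons, List.prod_nil, mul_one, mul_assoc]
  exact congrArg₂ (· * ·) (eB 0).symm (congrArg₂ (· * ·) (eB 1).symm (congrArg₂ (· * ·) (eB 2).symm (eB 3).symm))

omit h [Fintype K] [Field K] [Finite G] in
theorem eval_powW (w : List ℕ) : ∀ n : ℕ, evalW gn (powW n w) = evalW gn w ^ n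
  | 0 => by simp [powW, evalW]
  | n + 1 => by rw [powW, evalW_append, eval_powW w n, pow_succ']

theorem move_mem (i : Fin 6) : evalW gn (mvW i.1) ∈ bigI gn mem := by
  have htt := h.core.tt
  rw [mvW, evalW_append]
  refine mul_mem ?_ ?_
  · have hb : gn 7 ∈ bigI gn mem := Subgroup.subset_closure (Or.inr rfl)
    rcases gW_cases i with e | e | e <;> rw [e]
    · exact one_mem _
    · show evalW gn swW ∈ _
      rw [(eval_g2 T htt).2]; exact hb
    · rw [(eval_g2 T htt).1]
      exact mul_mem (mul_mem hb (pk_mem_I _ T htt)) hb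
  · have hlt : ∀ k ∈ mvList.getD i.1 [], k < 120 := fun k hk => by
      simpa using List.all_eq_true.mp (mvList_lt i) k hk
    obtain ⟨L, hL⟩ : ∃ L : List (Fin 120), L.map Fin.val = mvList.getD i.1 [] :=
      ⟨(mvList.getD i.1 []).attach.map fun k => (⟨k.1, hlt k.1 k.2⟩ : Fin 120), by
        rw [List.map_map]; exact List.attach_map_subtype_val _⟩
    rw [← hL, T.eval_lW]
    refine list_prod_mem fun x hx => ?_
    obtain ⟨k, -, rfl⟩ := List.mem_map.mp hx
    exact pk_mem_I k T htt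

/-- the normalisers of the non-trivial 5-subgroups of the product lie inside -/
theorem embedded : Cfsg.IsStronglyPEmbedded 5 (bigI gn mem) := by
  classical
  haveI : Fact (Nat.Prime 5) := ⟨by norm_num⟩
  have htt := h.core.tt
  obtain ⟨φ, ψ, hT, eA, eB⟩ := exists_twin_tbl T h
  set I := bigI gn mem with hI
  have hφI : φ.range ≤ I := chain_le_of_commute fun i hi => by
    rw [eA ⟨i, hi⟩]; exact pk_mem_I _ T htt
  have hψI : ψ.range ≤ I := chain_le_of_commute fun i hi => by
    rw [eB ⟨i, hi⟩]; exact pk_mem_I _ T htt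
  set Y := Subgroup.zpowers (φ cyc) with hY
  have hY5 : Nat.card Y = 5 := card_zpowers_cyc hT.inj
  -- the normaliser of the five-cycle
  have hNY : Subgroup.normalizer (Y : Set G) ≤ I := by
    have h20 : Nat.card ↥(Subgroup.normalizer (Y : Set G) ⊓ Subgroup.centralizer (members ψ)) = 20 := by
      have h1 := norm_card_aux h hT
      rw [← hY] at h1
      have h2 := (twin_counts h hT).2
      rw [← hY] at h2
      omega
    have heq : (Subgroup.normalizer (Subgroup.zpowers cyc : Set (Equiv.Perm (Fin (4 + 1))))).map φ =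
        Subgroup.normalizer (Y : Set G) ⊓ Subgroup.centralizer (members ψ) := by
      refine Subgroup.eq_of_le_of_card_ge ?_ (by rw [card_norm_cyc hT.inj, h20])
      rintro _ ⟨σ, hσ, rfl⟩
      refine ⟨norm_of_map_le ?_, Subgroup.mem_centralizer_iff.mpr ?_⟩
      · rw [hY, MonoidHom.map_zpowers, Subgroup.zpowers_le]
        show φ σ * φ cyc * (φ σ)⁻¹ ∈ Subgroup.zpowers (φ cyc)
        obtain ⟨n, hn⟩ := (Subgroup.mem_normalizer_iff.mp hσ cyc).mp (Subgroup.mem_zpowers _)
        refine ⟨n, ?_⟩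
        show φ cyc ^ n = _
        rw [← map_zpow, ← map_inv, ← map_mul, ← map_mul]
        exact congrArg φ hn
      · rintro _ ⟨t, -, rfl⟩
        exact (hT.comm σ t).symm.eq
    intro g hg
    obtain ⟨σ, hσ⟩ := exists_mul_mem hT.inj' step_four (twin_norm h hT hg)
    rw [show g = (ψ σ)⁻¹ * (ψ σ * g) by group]
    refine mul_mem (inv_mem (hψI ⟨σ, rfl⟩)) ?_
    have hm : ψ σ * g ∈ (Subgroup.normalizer (Subgroup.zpowers cyc : Set (Equiv.Perm (Fin (4 + 1))))).map φ := by
      rw [heq]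
      exact ⟨mul_mem (Geo22.cent_le_normalizer (twin_range_le hT ⟨σ, rfl⟩)) hg,
        Subgroup.mem_centralizer_iff.mpr fun x hx => (hσ x hx).symm.eq⟩
    exact hφI (Subgroup.map_le_range φ _ hm)
  set E := (pairHom φ ψ hT.comm).range with hE
  have hE25 : Nat.card E = 25 := pair_card hT
  -- every line is a conjugate under the subgroup
  have hline : ∀ X : Subgroup G, Nat.card X = 5 → X ≤ E →
      ∃ n ∈ I, Y.map (MulAut.conj n).toMonoidHom = X := by
    intro X hX hXE
    obtain ⟨⟨x, hx⟩, hx1⟩ : ∃ x : ↥X, x ≠ 1 := by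
      haveI : Nontrivial ↥X := Finite.one_lt_card_iff_nontrivial.mp (by omega)
      exact exists_ne 1
    obtain ⟨⟨p, q⟩, hpq⟩ := hXE hx
    obtain ⟨m, hm, em⟩ := exists_pow_cyc p
    obtain ⟨n, hn, en⟩ := exists_pow_cyc q
    rw [pairHom_apply, em, en, map_pow, map_pow] at hpq
    have hne : m ≠ 0 ∨ n ≠ 0 := by
      by_contra hno
      simp only [not_or, not_not] at hno
      refine hx1 (Subtype.ext ?_)
      show x = 1
      rw [← hpq, hno.1, hno.2, pow_zero, pow_zero, one_mul]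
    obtain ⟨i, t, -, ek, el⟩ := exp_cover m hm n hn hne
    refine ⟨evalW gn (mvW i.1), move_mem T h i, ?_⟩
    set k := (mvExp.getD i.1 []).getD 0 0
    set l := (mvExp.getD i.1 []).getD 1 0
    have e := T.same (fun z hz => class_cent T h hz) (H46.Fi22Out.lt_of_all (mv_lt i).1)
      (H46.Fi22Out.lt_of_all (mv_lt i).2) (mv_ok i).1
    rw [evalW_append, evalW_append, T.eval_reverse, eW, evalW_append, eval_powW T, eval_powW T,
      eval_chainA T h eA, eval_chainB T h eB] at e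
    have hc : Commute (φ cyc ^ k) (ψ cyc ^ l) := ((hT.comm cyc cyc).pow_left k).pow_right l
    have h5a : φ cyc ^ 5 = 1 := by rw [← map_pow, cyc_five, map_one]
    have h5b : ψ cyc ^ 5 = 1 := by rw [← map_pow, cyc_five, map_one]
    have hxn : x = evalW gn (mvW i.1) * φ cyc ^ t * (evalW gn (mvW i.1))⁻¹ := by
      rw [← conj_pow, e, hc.mul_pow, ← pow_mul, ← pow_mul, ← hpq, ← ek, ← el]
      congr 1
      · rw [mul_comm k t]
        conv_rhs => rw [← Nat.mod_add_div (t * k) 5, pow_add, pow_mul, h5a, one_pow, mul_one]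
      · rw [mul_comm l t]
        conv_rhs => rw [← Nat.mod_add_div (t * l) 5, pow_add, pow_mul, h5b, one_pow, mul_one]
    have hxX : Subgroup.zpowers x = X := by
      refine Subgroup.eq_of_le_of_card_ge (Subgroup.zpowers_le.mpr hx) ?_
      have hd := Subgroup.card_dvd_of_le (Subgroup.zpowers_le.mpr hx : Subgroup.zpowers x ≤ X)
      rw [hX] at hd ⊢
      rcases (Nat.dvd_prime (by norm_num)).mp hd with r | r
      · exfalso
        rw [Nat.card_zpowers, orderOf_eq_one_iff] at r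
        exact hx1 (Subtype.ext r)
      · omega
    refine (Subgroup.eq_of_le_of_card_ge ?_ (by
      rw [hX, Subgroup.card_map_of_injective (MulAut.conj _).injective, hY5])).symm
    rw [← hxX, Subgroup.zpowers_le, hxn]
    exact ⟨φ cyc ^ t, pow_mem (Subgroup.mem_zpowers _) t, rfl⟩
  have hnorm : ∀ X : Subgroup G, Nat.card X = 5 → X ≤ E → Subgroup.normalizer (X : Set G) ≤ I := by
    intro X hX hXE g hg
    obtain ⟨n, hn, rfl⟩ := hline X hX hXE
    rw [show g = n * (n⁻¹ * g * n) * n⁻¹ by group]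
    refine mul_mem (mul_mem hn (hNY (norm_of_map_le ?_))) (inv_mem hn)
    rintro _ ⟨y, hy, rfl⟩
    have := (Subgroup.mem_normalizer_iff.mp hg _).mp (⟨y, hy, rfl⟩ : n * y * n⁻¹ ∈ Y.map (MulAut.conj n).toMonoidHom)
    obtain ⟨y', hy', e⟩ := this
    show n⁻¹ * g * n * y * (n⁻¹ * g * n)⁻¹ ∈ Y
    rw [show n⁻¹ * g * n * y * (n⁻¹ * g * n)⁻¹ = n⁻¹ * (g * (n * y * n⁻¹) * g⁻¹) * n by group, ← e]
    show n⁻¹ * (n * y' * n⁻¹) * n ∈ Y
    rwa [show n⁻¹ * (n * y' * n⁻¹) * n = y' by group]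
  have hNE : Subgroup.normalizer (E : Set G) ≤ I := by
    intro g hg
    have hle : Y.map (MulAut.conj g).toMonoidHom ≤ E := by
      refine (Subgroup.map_mono (twin_le_pair h hT)).trans ?_
      rw [map_conj_of_norm hg]
    obtain ⟨n, hn, e⟩ := hline _ (by rw [Subgroup.card_map_of_injective (MulAut.conj g).injective, hY5]) hle
    rw [show g = n * (n⁻¹ * g) by group]
    refine mul_mem hn (hNY (norm_of_map_le ?_))
    rw [map_mul, map_inv, show ((MulAut.conj n)⁻¹ * MulAut.conj g).toMonoidHom =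
      ((MulAut.conj n)⁻¹ : MulAut G).toMonoidHom.comp (MulAut.conj g).toMonoidHom from rfl, ← Subgroup.map_map,
      ← e, Subgroup.map_map]
    refine le_of_eq ?_
    convert Subgroup.map_id Y using 2
    ext z
    exact (MulAut.conj n).symm_apply_apply z
  obtain ⟨P, hP⟩ := (IsPGroup.of_card (p := 5) (n := 2) (G := ↥E) (by rw [hE25]; norm_num)).exists_le_sylow
  have hPE : (P : Subgroup G) = E := (Subgroup.eq_of_le_of_card_ge hP (by
    rw [sylow_five_card h P, hE25])).symm
  refine ⟨?_, ?_, P, ?_⟩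
  · exact (dvd_trans (by norm_num) hE25.symm.dvd).trans (Subgroup.card_subgroup_dvd_card E)
  · intro htop
    obtain ⟨e⟩ := bigI_iso T h
    obtain ⟨d, hd⟩ := member_exists h
    have hc := Nat.card_congr e.toEquiv
    rw [← hI, htop, Subgroup.card_top, h.card_group hd] at hc
    have h0 := S0293.result (F := ZMod 2) (q := 2) (by simp [ZMod.card]) 4 le_rfl
    rw [← Nat.card_congr ((QuotientGroup.quotientBot).symm.trans
      (QuotientGroup.quotientMulEquivOfEq center_om8.symm) : ↥Om8 ≃* _).toEquiv] at h0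
    have h1 := card_mulAut_le
    obtain ⟨c, hcdef⟩ : ∃ c, c = Nat.card ↥Om8 := ⟨_, rfl⟩
    obtain ⟨a, hadef⟩ : ∃ a, a = Nat.card (MulAut ↥Om8) := ⟨_, rfl⟩
    rw [← hcdef] at h0 h1
    rw [← hadef] at hc h1
    clear hcdef hadef
    norm_num [Finset.prod_range_succ] at h0
    omega
  · refine iSup_le ?_
    rintro ⟨Q, hQP, hQr⟩
    show Subgroup.normalizer (Q : Set G) ≤ I
    have hQE : Q ≤ E := hQP.trans hPE.le
    have hd := Subgroup.card_dvd_of_le hQE
    rw [hE25, show (25 : ℕ) = 5 ^ 2 by norm_num, Nat.dvd_prime_pow (by norm_num)] at hd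
    obtain ⟨j, hj, ej⟩ := hd
    rcases (show j = 0 ∨ j = 1 ∨ j = 2 by omega) with rfl | rfl | rfl
    · exfalso
      refine hQr fun A _ _ => ?_
      exact (Subgroup.card_le_card_group A).trans (by simp [ej])
    · exact hnorm Q (by rw [ej]; norm_num) hQE
    · rw [Subgroup.eq_of_le_of_card_ge hQE (by rw [ej, hE25]; norm_num)]
      exact hNE

end Cfsg.Agent.H3.Fischer.O8
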